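import Groth.Prelude.Def_DRing2
import Mathlib.Algebra.Homology.DerivedCategory.KProjective
import Mathlib.Algebra.Homology.DerivedCategory.TStructure
import Mathlib.Algebra.Category.ModuleCat.Biproducts
import Mathlib.Algebra.Category.ModuleCat.Projective
import Mathlib.RingTheory.Noetherian.Basic
import Mathlib.RingTheory.Finiteness.Prod

/-!
Perfect complexes of modules: iso, shifts, cones, two out of three, boundedness, finiteness.
-/

set_option autoImplicit false
set_option linter.style.haveILetI false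
universe u

namespace Groth.Agent.PerfLocal

open CategoryTheory Limits Pretriangulated DerivedCategory ZeroObject

attribute [local instance] HasDerivedCategory.standard

variable {R : Type u} [CommRing R]

lemma isPerfect_of_iso {X Y : Dual.D R} (e : X ≅ Y) (h : DRing.IsPerfect R X) :
    DRing.IsPerfect R Y := by
  obtain ⟨E, a, b, h₁, h₂, ⟨e'⟩⟩ := h
  exact ⟨E, a, b, h₁, h₂, ⟨e' ≪≫ e⟩⟩

lemma finiteProjective_of_iso {M N : ModuleCat.{u} R} (e : M ≅ N)
    (h : Module.Finite R M ∧ Module.Projective R M) : Module.Finite R N ∧ Module.Projective R N :=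
  haveI := h.1
  haveI := h.2
  ⟨Module.Finite.equiv e.toLinearEquiv, Module.Projective.of_equiv e.toLinearEquiv⟩

lemma finiteProjective_of_isZero {M : ModuleCat.{u} R} (h : IsZero M) :
    Module.Finite R M ∧ Module.Projective R M :=
  haveI := ModuleCat.subsingleton_of_isZero h
  ⟨inferInstance, inferInstance⟩

lemma isStrictlyLE_of_vanishesOutside {E : DRing.Cx R} {a b : ℤ} (h : DRing.VanishesOutside E a b) :
    E.IsStrictlyLE b := by
  rw [CochainComplex.isStrictlyLE_iff]
  exact fun i hi => h i (Or.inr hi)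

lemma isStrictlyGE_of_vanishesOutside {E : DRing.Cx R} {a b : ℤ} (h : DRing.VanishesOutside E a b) :
    E.IsStrictlyGE a := by
  rw [CochainComplex.isStrictlyGE_iff]
  exact fun i hi => h i (Or.inl hi)

lemma isPerfect_shift {X : Dual.D R} (h : DRing.IsPerfect R X) (n : ℤ) :
    DRing.IsPerfect R (X⟦n⟧) := by
  obtain ⟨E, a, b, h₁, h₂, ⟨e⟩⟩ := h
  exact ⟨E⟦n⟧, a - n, b - n, fun i hi => h₁ (i + n) (by lia), fun i => h₂ (i + n),
    ⟨(DerivedCategory.Q.commShiftIso n).app E ≪≫ (shiftFunctor _ n).mapIso e⟩⟩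

lemma exists_lift {E F : DRing.Cx R} [E.IsKProjective] (α : DRing.toD E ⟶ DRing.toD F) :
    ∃ f : E ⟶ F, DerivedCategory.Q.map f = α := by
  obtain ⟨g, hg⟩ := (CochainComplex.IsKProjective.Qh_map_bijective E _).2
    ((quotientCompQhIso _).hom.app E ≫ α ≫ (quotientCompQhIso _).inv.app F)
  obtain ⟨f, rfl⟩ := (HomotopyCategory.quotient _ _).map_surjective g
  refine ⟨f, ?_⟩
  have := (quotientCompQhIso (ModuleCat.{u} R)).hom.naturality f
  simp only [Functor.comp_map] at this
  rw [hg, Category.assoc, Category.assoc, Iso.inv_hom_id_app, Category.comp_id] at this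
  exact ((cancel_epi _).1 this).symm

lemma isPerfect_obj₃ (T : Triangle (Dual.D R)) (hT : T ∈ distTriang (Dual.D R))
    (h₁ : DRing.IsPerfect R T.obj₁) (h₂ : DRing.IsPerfect R T.obj₂) :
    DRing.IsPerfect R T.obj₃ := by
  obtain ⟨E, a, b, hE, hEp, ⟨e⟩⟩ := h₁
  obtain ⟨F, a', b', hF, hFp, ⟨e'⟩⟩ := h₂
  have := isStrictlyLE_of_vanishesOutside hE
  have : ∀ n, CategoryTheory.Projective (E.X n) := fun n =>
    haveI := (hEp n).2
    (IsProjective.iff_projective (E.X n)).1 inferInstance
  have := CochainComplex.isKProjective_of_projective E b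
  obtain ⟨f, hf⟩ := exists_lift (e.hom ≫ T.mor₁ ≫ e'.inv)
  refine ⟨CochainComplex.mappingCone f, min (a - 1) a', max b b', fun i hi => ?_, fun i => ?_,
    ⟨Triangle.π₃.mapIso (isoTriangleOfIso₁₂ _ _ (mappingCone_triangle_distinguished f) hT e e' ?_)⟩⟩
  · refine IsZero.of_iso ?_ (HomologicalComplex.homotopyCofiber.XIsoBiprod f i (i + 1) rfl)
    exact biprod_isZero_iff _ _ |>.2 ⟨hE (i + 1) (by lia), hF i (by lia)⟩
  · haveI := (hEp (i + 1)).1
    haveI := (hFp i).1
    haveI := (hEp (i + 1)).2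
    haveI := (hFp i).2
    exact finiteProjective_of_iso
      (HomologicalComplex.homotopyCofiber.XIsoBiprod f i (i + 1) rfl).symm
      (finiteProjective_of_iso (ModuleCat.biprodIsoProd _ _).symm
        ⟨show Module.Finite R (E.X (i + 1) × F.X i) from inferInstance,
          show Module.Projective R (E.X (i + 1) × F.X i) from inferInstance⟩)
  · show DerivedCategory.Q.map f ≫ e'.hom = e.hom ≫ T.mor₁
    rw [hf, Category.assoc, Category.assoc, Iso.inv_hom_id, Category.comp_id]

lemma isPerfect_obj₂ (T : Triangle (Dual.D R)) (hT : T ∈ distTriang (Dual.D R))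
    (h₁ : DRing.IsPerfect R T.obj₁) (h₃ : DRing.IsPerfect R T.obj₃) :
    DRing.IsPerfect R T.obj₂ :=
  isPerfect_obj₃ T.invRotate (inv_rot_of_distTriang _ hT) (isPerfect_shift h₃ (-1)) h₁

lemma isPerfect_of_isZero {X : Dual.D R} (h : IsZero X) : DRing.IsPerfect R X :=
  ⟨0, 0, 0, fun _ _ => (HomologicalComplex.eval _ _ _).map_isZero (isZero_zero _),
    fun i => finiteProjective_of_isZero ((HomologicalComplex.eval _ _ i).map_isZero (isZero_zero _)),
    ⟨(DerivedCategory.Q.map_isZero (isZero_zero _)).iso h⟩⟩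

lemma exists_isLE_isGE_of_isPerfect {X : Dual.D R} (h : DRing.IsPerfect R X) :
    ∃ a b : ℤ, X.IsGE a ∧ X.IsLE b := by
  obtain ⟨E, a, b, h₁, -, ⟨e⟩⟩ := h
  have := isStrictlyLE_of_vanishesOutside h₁
  have := isStrictlyGE_of_vanishesOutside h₁
  exact ⟨a, b, TStructure.t.isGE_of_iso e a, TStructure.t.isLE_of_iso e b⟩

lemma finite_HD_of_isPerfect [IsNoetherianRing R] {X : Dual.D R} (h : DRing.IsPerfect R X) (i : ℤ) :
    Module.Finite R (Dual.HD R X i) := by
  obtain ⟨E, a, b, -, h₂, ⟨e⟩⟩ := h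
  have := (h₂ i).1
  have : Module.Finite R (E.sc i).X₂ := (h₂ i).1
  have : IsNoetherian R (E.sc i).X₂ := isNoetherian_of_isNoetherianRing_of_finite R _
  let e₁ : (DerivedCategory.homologyFunctor (ModuleCat.{u} R) i).obj X ≅ (E.sc i).homology :=
    (DerivedCategory.homologyFunctor _ i).mapIso e.symm ≪≫
      (homologyFunctorFactors _ i).app E
  have : Module.Finite R (E.sc i).cycles := Module.Finite.of_injective (E.sc i).iCycles.hom
    ((ModuleCat.mono_iff_injective _).1 inferInstance)
  have : Module.Finite R (E.sc i).homology := Module.Finite.of_surjective (E.sc i).homologyπ.hom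
    ((ModuleCat.epi_iff_surjective _).1 inferInstance)
  exact Module.Finite.equiv e₁.toLinearEquiv.symm

end Groth.Agent.PerfLocal
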