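import Groth.Prelude.Def_KZero
import Mathlib.GroupTheory.QuotientGroup.Basic

/-!
Basic calculus of classes in the Grothendieck group of a triangulated subcategory.
-/

set_option autoImplicit false
universe v u

namespace Groth.Agent.PerfLocal

open CategoryTheory Limits Pretriangulated ZeroObject

variable {D : Type u} [Category.{v} D] [Preadditive D] [HasZeroObject D] [HasShift D ℤ]
  [∀ n : ℤ, (shiftFunctor D n).Additive] [Pretriangulated D] {P : ObjectProperty D}

lemma clTr_add (T : Triangle D) (hT : T ∈ distTriang D) (h₁ : P T.obj₁) (h₂ : P T.obj₂)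
    (h₃ : P T.obj₃) : KZero.clTr P T.obj₂ = KZero.clTr P T.obj₁ + KZero.clTr P T.obj₃ := by
  rw [KZero.clTr, KZero.clTr, KZero.clTr, dif_pos h₁, dif_pos h₂, dif_pos h₃, ← QuotientAddGroup.mk_add,
    eq_comm, QuotientAddGroup.eq]
  refine AddSubgroup.subset_closure ⟨T, h₁, h₂, h₃, hT, ?_⟩
  abel

lemma clTr_zero (h : P (0 : D)) : KZero.clTr P (0 : D) = 0 := by
  have h0 := clTr_add (P := P) (contractibleTriangle (0 : D)) (contractible_distinguished _) h h h
  simpa using h0

lemma clTr_eq_zero_of_isZero {X : D} (hX : IsZero X) (h : P X) : KZero.clTr P X = 0 := by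
  have hT : Triangle.mk (𝟙 X) (0 : X ⟶ X) (0 : X ⟶ X⟦(1 : ℤ)⟧) ∈ distTriang D :=
    isomorphic_distinguished _ (contractible_distinguished X) _
      (Triangle.isoMk _ _ (Iso.refl _) (Iso.refl _) (hX.iso (isZero_zero D))
        (by exact rfl) ((isZero_zero D).eq_of_tgt _ _) (hX.eq_of_src _ _))
  have := clTr_add (P := P) _ hT h h h
  simpa using this

lemma clTr_eq_of_iso {X Y : D} (e : X ≅ Y) (h₀ : P (0 : D)) (hX : P X) (hY : P Y) :
    KZero.clTr P Y = KZero.clTr P X := by
  have hT : Triangle.mk e.hom (0 : Y ⟶ 0) (0 : (0 : D) ⟶ X⟦(1 : ℤ)⟧) ∈ distTriang D :=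
    isomorphic_distinguished _ (contractible_distinguished X) _
      (Triangle.isoMk _ _ (Iso.refl _) e.symm (Iso.refl _)
        (e.hom_inv_id.trans (Category.id_comp _).symm)
        ((isZero_zero D).eq_of_tgt _ _) ((isZero_zero D).eq_of_src _ _))
  refine (clTr_add (P := P) _ hT hX hY h₀).trans ?_
  show KZero.clTr P X + KZero.clTr P (0 : D) = _
  rw [clTr_zero h₀, add_zero]

lemma clTr_shift (h₀ : P (0 : D)) {X : D} (hX : P X) (hX' : P (X⟦(1 : ℤ)⟧)) :
    KZero.clTr P (X⟦(1 : ℤ)⟧) = -KZero.clTr P X := by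
  have := clTr_add (P := P) _ (rot_of_distTriang _ (contractible_distinguished X)) hX h₀ hX'
  change KZero.clTr P (0 : D) = KZero.clTr P X + KZero.clTr P (X⟦(1 : ℤ)⟧) at this
  rw [clTr_zero h₀] at this
  exact (neg_eq_of_add_eq_zero_right this.symm).symm

lemma clTr_shift_mem (S : AddSubgroup (KZero.K0tr P)) (h₀ : P (0 : D))
    (hiso : ∀ {A B : D}, (A ≅ B) → P A → P B)
    {X : D} (h : ∀ n : ℤ, P (X⟦n⟧)) (hmem : KZero.clTr P X ∈ S) (n : ℤ) :
    KZero.clTr P (X⟦n⟧) ∈ S := by
  let e0 := (shiftFunctorZero D ℤ).app X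
  have hX : P X := hiso e0 (h 0)
  have hstep : ∀ m : ℤ, KZero.clTr P (X⟦m + 1⟧) = -KZero.clTr P (X⟦m⟧) := fun m => by
    let e := (shiftFunctorAdd D m 1).app X
    rw [← clTr_shift h₀ (h m) (hiso e (h _))]
    exact clTr_eq_of_iso e.symm h₀ (hiso e (h _)) (h _)
  induction n using Int.induction_on with
  | zero =>
    rw [← clTr_eq_of_iso e0 h₀ (h 0) hX]
    exact hmem
  | succ k ih => rw [hstep]; exact S.neg_mem ih
  | pred k ih =>
    have h1 := hstep (-(k : ℤ) - 1)
    rw [sub_add_cancel] at h1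
    rw [h1] at ih
    exact neg_mem_iff.1 ih

lemma clTr_closure_eq_top (S : AddSubgroup (KZero.K0tr P))
    (h : ∀ X, P X → KZero.clTr P X ∈ S) : S = ⊤ := by
  rw [eq_top_iff]
  rintro x -
  induction x using QuotientAddGroup.induction_on with
  | H y =>
    induction y using FreeAbelianGroup.induction_on with
    | zero => exact S.zero_mem
    | of x =>
      have := h x.1 x.2
      rwa [KZero.clTr, dif_pos x.2] at this
    | neg x hx => rw [QuotientAddGroup.mk_neg]; exact S.neg_mem hx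
    | add x y hx hy => rw [QuotientAddGroup.mk_add]; exact S.add_mem hx hy

end Groth.Agent.PerfLocal
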