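import Groth.Agent.PerfLocal.Devissage
import Groth.Agent.PerfLocal.K0
import Groth.Prelude.Def_Koszul
import Mathlib.Algebra.Homology.DerivedCategory.Linear
import Mathlib.RingTheory.Regular.RegularSequence

/-!
The Koszul complex of a regular sequence resolves the quotient; K₀ of perfect complexes supported
at the closed point of a regular local ring is generated by it.
-/

set_option autoImplicit false
set_option linter.style.haveILetI false
universe u

namespace Groth.Agent.PerfLocal

open CategoryTheory Limits Pretriangulated DerivedCategory ZeroObject RingTheory.Sequence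

attribute [local instance] HasDerivedCategory.standard

variable {R : Type u} [CommRing R]

lemma isPerfect_koszul (l : List R) : DRing.IsPerfect R (DRing.toD (Koszul.koszul R l)) := by
  induction l with
  | nil =>
    refine ⟨_, 0, 0, fun i hi => HomologicalComplex.isZero_single_obj_X _ _ _ _ (by lia), fun i => ?_,
      ⟨Iso.refl _⟩⟩
    by_cases hi : i = 0
    · subst hi
      exact finiteProjective_of_iso
        (HomologicalComplex.singleObjXSelf (ComplexShape.up ℤ) 0 (ModuleCat.of R R)).symm
        ⟨inferInstanceAs (Module.Finite R R), inferInstanceAs (Module.Projective R R)⟩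
    · exact finiteProjective_of_isZero (HomologicalComplex.isZero_single_obj_X _ _ _ _ hi)
  | cons f l ih =>
    exact isPerfect_obj₃ _ (mappingCone_triangle_distinguished (f • 𝟙 (Koszul.koszul R l))) ih ih

lemma isSMulRegular_quotient (l : List R) (f : R) (h : IsWeaklyRegular R (f :: l).reverse) :
    IsSMulRegular (R ⧸ Ideal.ofList l) f := by
  rw [List.reverse_cons, isWeaklyRegular_append_iff, isWeaklyRegular_singleton_iff] at h
  have e : (Ideal.ofList l.reverse • ⊤ : Submodule R R) = Ideal.ofList l := by
    rw [smul_eq_mul, Ideal.mul_top]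
    simp [Ideal.ofList, List.mem_reverse]
  exact ((Submodule.quotEquivOfEq _ _ e).isSMulRegular_congr f).1 h.2

lemma exists_iso_koszul (l : List R) (h : IsWeaklyRegular R l.reverse) :
    Nonempty (DRing.toD (Koszul.koszul R l) ≅
      (DerivedCategory.singleFunctor (ModuleCat.{u} R) 0).obj
        (ModuleCat.of R (R ⧸ Ideal.ofList l))) := by
  induction l with
  | nil =>
    exact ⟨(singleFunctorIsoCompQ (ModuleCat.{u} R) 0).symm.app _ ≪≫
      (DerivedCategory.singleFunctor _ 0).mapIso
        (Submodule.quotEquivOfEqBot _ Ideal.ofList_nil).symm.toModuleIso⟩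
  | cons f l ih =>
    have hreg := isSMulRegular_quotient l f h
    rw [List.reverse_cons, isWeaklyRegular_append_iff] at h
    obtain ⟨e⟩ := ih h.1
    let M := ModuleCat.of R (R ⧸ Ideal.ofList l)
    have hle : Ideal.ofList l ≤ Ideal.ofList (f :: l) := by
      rw [Ideal.ofList_cons]; exact le_sup_right
    let g : (R ⧸ Ideal.ofList l) →ₗ[R] (R ⧸ Ideal.ofList (f :: l)) := Submodule.factor hle
    let S : ShortComplex (ModuleCat.{u} R) :=
      ShortComplex.mk (f • 𝟙 M) (ModuleCat.ofHom g) (ModuleCat.hom_ext (LinearMap.ext fun x => by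
        obtain ⟨y, rfl⟩ := Submodule.mkQ_surjective _ x
        show g (f • (Submodule.Quotient.mk y : R ⧸ Ideal.ofList l)) = 0
        rw [← Submodule.Quotient.mk_smul]
        show Submodule.Quotient.mk (f • y) = 0
        rw [Submodule.Quotient.mk_eq_zero, smul_eq_mul]
        exact Ideal.mul_mem_right _ _ (by simp [Ideal.ofList_cons, Ideal.mem_sup_left,
          Ideal.mem_span_singleton_self])))
    have hS : S.ShortExact :=
      { exact := by
          rw [ShortComplex.ShortExact.moduleCat_exact_iff_function_exact]
          intro x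
          constructor
          · intro hx
            obtain ⟨y, rfl⟩ := Submodule.mkQ_surjective _ x
            have hy : y ∈ Ideal.ofList (f :: l) := (Submodule.Quotient.mk_eq_zero _).1 hx
            rw [Ideal.ofList_cons, Submodule.mem_sup] at hy
            obtain ⟨a, ha, b, hb, rfl⟩ := hy
            obtain ⟨c, rfl⟩ := Ideal.mem_span_singleton'.1 ha
            refine ⟨Submodule.Quotient.mk c, ?_⟩
            show f • (Submodule.Quotient.mk c : R ⧸ Ideal.ofList l) = Submodule.Quotient.mk (c * f + b)
            rw [← Submodule.Quotient.mk_smul, Submodule.Quotient.eq, smul_eq_mul]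
            simpa [mul_comm] using hb
          · rintro ⟨y, rfl⟩
            exact ConcreteCategory.congr_hom S.zero y
        mono_f := (ModuleCat.mono_iff_injective _).2 hreg
        epi_g := (ModuleCat.epi_iff_surjective _).2 (Submodule.factor_surjective hle) }
    refine ⟨Triangle.π₃.mapIso (isoTriangleOfIso₁₂ _ _
      (mappingCone_triangle_distinguished (f • 𝟙 (Koszul.koszul R l)))
      hS.singleTriangle_distinguished e e ?_)⟩
    show DerivedCategory.Q.map (f • 𝟙 (Koszul.koszul R l)) ≫ e.hom =
      e.hom ≫ (DerivedCategory.singleFunctor _ 0).map (f • 𝟙 M)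
    rw [Functor.map_smul, Functor.map_smul, CategoryTheory.Functor.map_id,
      CategoryTheory.Functor.map_id, Linear.smul_comp, Linear.comp_smul, Category.id_comp,
      Category.comp_id]

variable (R) in
theorem closure_koszul_eq_top [IsNoetherianRing R] [IsLocalRing R] (fs : List R)
    (hreg : IsRegular R fs) (hgen : Ideal.ofList fs = IsLocalRing.maximalIdeal R) :
    AddSubgroup.closure
        {KZero.clTr (fun K : Dual.D R => DRing.IsPerfect R K ∧
            ∀ i : ℤ, Module.support R (Dual.HD R K i) ⊆ {IsLocalRing.closedPoint R})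
          (DRing.toD (Koszul.koszul R fs))} = ⊤ := by
  let P : ObjectProperty (Dual.D R) := fun K => DRing.IsPerfect R K ∧
    ∀ i : ℤ, Module.support R (Dual.HD R K i) ⊆ {IsLocalRing.closedPoint R}
  have hwr : IsWeaklyRegular R fs.reverse :=
    (IsLocalRing.isRegular_of_perm hreg (List.reverse_perm fs).symm).toIsWeaklyRegular
  obtain ⟨ek⟩ : Nonempty (DRing.toD (Koszul.koszul R fs) ≅ kD R) := by
    obtain ⟨e⟩ := exists_iso_koszul fs hwr
    exact ⟨e ≪≫ (DerivedCategory.singleFunctor _ 0).mapIso
      (Submodule.quotEquivOfEq _ _ hgen).toModuleIso⟩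
  have hperf : ∀ {X : Dual.D R}, Built R X → DRing.IsPerfect R X := by
    intro X h
    induction h with
    | zero h => exact isPerfect_of_isZero h
    | gen n => exact isPerfect_shift (isPerfect_of_iso ek (isPerfect_koszul fs)) n
    | iso e _ ih => exact isPerfect_of_iso e ih
    | ext T hT _ _ ih₁ ih₃ => exact isPerfect_obj₂ T hT ih₁ ih₃
  have hP : ∀ {X : Dual.D R}, Built R X → P X := fun h => ⟨hperf h, support_HD_of_built h⟩
  have hPiso : ∀ {A B : Dual.D R}, (A ≅ B) → P A → P B := fun e h =>
    hP (.iso e (built_of_isPerfect h.1 h.2))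
  have h₀ : P 0 := hP (.zero (isZero_zero _))
  refine clTr_closure_eq_top _ fun X hX => ?_
  have hB := built_of_isPerfect hX.1 hX.2
  clear hX
  induction hB with
  | zero h =>
    rw [clTr_eq_zero_of_isZero (P := P) h (hP (.zero h))]
    exact AddSubgroup.zero_mem _
  | gen n =>
    refine clTr_shift_mem (P := P) _ h₀ hPiso (fun n => hP (.gen n)) ?_ n
    rw [clTr_eq_of_iso (P := P) ek h₀ (hPiso ek.symm (hPiso ((shiftFunctorZero _ ℤ).app _) (hP (.gen 0))))
      (hPiso ((shiftFunctorZero _ ℤ).app _) (hP (.gen 0)))]
    exact AddSubgroup.subset_closure rfl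
  | iso e h ih =>
    rw [clTr_eq_of_iso (P := P) e h₀ (hP h) (hP (.iso e h))]
    exact ih
  | ext T hT h₁ h₃ ih₁ ih₃ =>
    rw [clTr_add (P := P) T hT (hP h₁) (hP (.ext T hT h₁ h₃)) (hP h₃)]
    exact AddSubgroup.add_mem _ ih₁ ih₃

end Groth.Agent.PerfLocal
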