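import Groth.Agent.PerfLocal.Perfect
import Mathlib.Algebra.Homology.DerivedCategory.SingleTriangle
import Mathlib.RingTheory.Ideal.AssociatedPrime.Finiteness
import Mathlib.RingTheory.Support
import Mathlib.CategoryTheory.Triangulated.TStructure.Basic
import Mathlib.RingTheory.Spectrum.Prime.Topology
import Mathlib.Algebra.Homology.ShortComplex.ModuleCat

/-!
Dévissage: complexes over a Noetherian local ring with bounded, finite cohomology supported at
the closed point are built from the residue field.
-/

set_option autoImplicit false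
set_option linter.style.haveILetI false
universe u

namespace Groth.Agent.PerfLocal

open CategoryTheory Limits Pretriangulated DerivedCategory ZeroObject

attribute [local instance] HasDerivedCategory.standard

variable (R : Type u) [CommRing R] [IsLocalRing R]

/-- a finite module supported at the closed point -/
def FL (M : Type u) [AddCommGroup M] [Module R M] : Prop :=
  Module.Finite R M ∧ Module.support R M ⊆ {IsLocalRing.closedPoint R}

/-- the residue field in degree zero -/
noncomputable abbrev kD : Dual.D R :=
  (DerivedCategory.singleFunctor (ModuleCat.{u} R) 0).obj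
    (ModuleCat.of R (R ⧸ IsLocalRing.maximalIdeal R))

/-- built from the residue field by shifts and extensions -/
inductive Built : Dual.D R → Prop
  | zero {X : Dual.D R} (h : IsZero X) : Built X
  | gen (n : ℤ) : Built ((kD R)⟦n⟧)
  | iso {X Y : Dual.D R} (e : X ≅ Y) (h : Built X) : Built Y
  | ext (T : Triangle (Dual.D R)) (hT : T ∈ distTriang (Dual.D R))
      (h₁ : Built T.obj₁) (h₃ : Built T.obj₃) : Built T.obj₂

variable {R}

lemma FL.of_injective [IsNoetherianRing R] {M N : Type u} [AddCommGroup M] [Module R M]
    [AddCommGroup N] [Module R N] (f : M →ₗ[R] N) (hf : Function.Injective f) (h : FL R N) :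
    FL R M :=
  haveI := h.1
  haveI : IsNoetherian R N := isNoetherian_of_isNoetherianRing_of_finite R N
  ⟨Module.Finite.of_injective f hf, (Module.support_subset_of_injective f hf).trans h.2⟩

lemma FL.of_surjective {M N : Type u} [AddCommGroup M] [Module R M] [AddCommGroup N] [Module R N]
    (f : M →ₗ[R] N) (hf : Function.Surjective f) (h : FL R M) : FL R N :=
  haveI := h.1
  ⟨Module.Finite.of_surjective f hf, (Module.support_subset_of_surjective f hf).trans h.2⟩

lemma Built.shift {X : Dual.D R} (h : Built R X) (n : ℤ) : Built R (X⟦n⟧) := by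
  induction h with
  | zero h => exact .zero ((shiftFunctor _ n).map_isZero h)
  | gen m => exact .iso ((shiftFunctorAdd _ m n).app _) (.gen (m + n))
  | iso e _ ih => exact .iso ((shiftFunctor _ n).mapIso e) ih
  | ext T hT _ _ ih₁ ih₃ => exact .ext _ (Triangle.shift_distinguished T hT n) ih₁ ih₃

variable [IsNoetherianRing R]

lemma built_single_zero (M : Type u) [AddCommGroup M] [Module R M] (hM : FL R M) :
    Built R ((DerivedCategory.singleFunctor (ModuleCat.{u} R) 0).obj (ModuleCat.of R M)) := by
  refine IsNoetherianRing.induction_on_isQuotientEquivQuotientPrime (A := R) hM.1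
    (motive := fun N _ _ _ => Module.support R N ⊆ {IsLocalRing.closedPoint R} →
      Built R ((DerivedCategory.singleFunctor (ModuleCat.{u} R) 0).obj (ModuleCat.of R N)))
    ?_ ?_ ?_ hM.2
  · intro N _ _ _ _ _
    exact .zero (Functor.map_isZero _ (ModuleCat.isZero_of_subsingleton _))
  · intro N _ _ _ p e hN
    have hp : p ∈ Module.support R N := by
      rw [e.support_eq, Module.mem_support_iff_of_finite, Ideal.annihilator_quotient]
    obtain rfl : p = IsLocalRing.closedPoint R := hN hp
    exact .iso ((shiftFunctorZero _ ℤ).app (kD R) ≪≫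
      (DerivedCategory.singleFunctor _ 0).mapIso e.symm.toModuleIso) (.gen 0)
  · intro N₁ _ _ _ N₂ _ _ _ N₃ _ _ _ f g hf hg hfg ih₁ ih₃ hN
    let S : ShortComplex (ModuleCat.{u} R) := ShortComplex.mk (ModuleCat.ofHom f) (ModuleCat.ofHom g)
      (by ext x; exact hfg.apply_apply_eq_zero x)
    have hS : S.ShortExact :=
      { exact := (ShortComplex.ShortExact.moduleCat_exact_iff_function_exact S).2 hfg
        mono_f := (ModuleCat.mono_iff_injective _).2 hf
        epi_g := (ModuleCat.epi_iff_surjective _).2 hg }
    exact .ext _ hS.singleTriangle_distinguished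
      (ih₁ ((Module.support_subset_of_injective f hf).trans hN))
      (ih₃ ((Module.support_subset_of_surjective g hg).trans hN))

lemma built_of_concentrated {X : Dual.D R} (n : ℤ) [X.IsGE n] [X.IsLE n]
    (h : FL R (Dual.HD R X n)) : Built R X := by
  obtain ⟨Y, ⟨e⟩⟩ := exists_iso_singleFunctor_obj_of_isGE_of_isLE X n
  let e' : (DerivedCategory.homologyFunctor (ModuleCat.{u} R) n).obj X ≅ Y :=
    (DerivedCategory.homologyFunctor _ n).mapIso e ≪≫
      (homologyFunctorFactors _ n).app _ ≪≫
      HomologicalComplex.singleObjHomologySelfIso (ComplexShape.up ℤ) n Y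
  refine .iso (((DerivedCategory.singleFunctors (ModuleCat.{u} R)).shiftIso (-n) n 0
    (by lia)).app Y ≪≫ e.symm) ?_
  exact (built_single_zero Y (FL.of_surjective e'.hom.hom e'.toLinearEquiv.surjective h)).shift (-n)

lemma built_of_bounded (k : ℕ) : ∀ (X : Dual.D R) (a b : ℤ), b + 1 ≤ a + k → X.IsGE a → X.IsLE b →
    (∀ i, FL R (Dual.HD R X i)) → Built R X := by
  induction k with
  | zero =>
    intro X a b hk ha hb _
    exact .zero (TStructure.t.isZero X b a (by lia))
  | succ k ih =>
    intro X a b hk ha hb h
    by_cases hab : b < a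
    · exact .zero (TStructure.t.isZero X b a hab)
    obtain ⟨A, B, hA, hB, f, g, δ, hT⟩ := TStructure.t.exists_triangle X (b - 1) b (by lia)
    have hA' : A.IsLE (b - 1) := ⟨hA⟩
    have hB' : B.IsGE b := ⟨hB⟩
    let T := Triangle.mk f g δ
    -- cohomology of `B`
    have hBle : B.IsLE b := by
      rw [isLE_iff]
      intro i hi
      exact (HomologySequence.exact₃ T hT i (i + 1)).isZero_of_both_zeros
        ((isZero_of_isLE X b i hi).eq_of_src _ _)
        ((isZero_of_isLE A (b - 1) (i + 1) (by lia)).eq_of_tgt _ _)
    have hsurj : Epi ((DerivedCategory.homologyFunctor (ModuleCat.{u} R) b).map g) :=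
      (HomologySequence.exact₃ T hT b (b + 1)).epi_f
        ((isZero_of_isLE A (b - 1) (b + 1) (by lia)).eq_of_tgt _ _)
    have hBb : Built R B := built_of_concentrated b
      (FL.of_surjective _ ((ModuleCat.epi_iff_surjective _).1 hsurj) (h b))
    -- cohomology of `A`
    have hmono : ∀ i, Mono ((DerivedCategory.homologyFunctor (ModuleCat.{u} R) i).map f) := by
      intro i
      by_cases hi : i ≤ b
      · exact (HomologySequence.exact₁ T hT (i - 1) i).mono_g
          ((isZero_of_isGE B b (i - 1) (by lia)).eq_of_src _ _)
      · exact ⟨fun _ _ _ => (isZero_of_isLE A (b - 1) i (by lia)).eq_of_tgt _ _⟩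
    have hAfl : ∀ i, FL R (Dual.HD R A i) := fun i =>
      FL.of_injective _ ((ModuleCat.mono_iff_injective _).1 (hmono i)) (h i)
    have hAge : A.IsGE a := by
      rw [isGE_iff]
      intro i hi
      haveI := hmono i
      exact IsZero.of_mono ((DerivedCategory.homologyFunctor (ModuleCat.{u} R) i).map f)
        (isZero_of_isGE X a i hi)
    exact .ext T hT (ih A a (b - 1) (by lia) hAge hA' hAfl) hBb

lemma built_of_isPerfect {X : Dual.D R} (h : DRing.IsPerfect R X)
    (hs : ∀ i, Module.support R (Dual.HD R X i) ⊆ {IsLocalRing.closedPoint R}) : Built R X := by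
  obtain ⟨a, b, ha, hb⟩ := exists_isLE_isGE_of_isPerfect h
  exact built_of_bounded (b + 1 - a).toNat X a b (by lia) ha hb
    fun i => ⟨finite_HD_of_isPerfect h i, hs i⟩

omit [IsNoetherianRing R] in
lemma support_HD_of_built {X : Dual.D R} (h : Built R X) (i : ℤ) :
    Module.support R (Dual.HD R X i) ⊆ {IsLocalRing.closedPoint R} := by
  induction h generalizing i with
  | zero h =>
    have := ModuleCat.subsingleton_of_isZero
      ((DerivedCategory.homologyFunctor (ModuleCat.{u} R) i).map_isZero h)
    simp [Module.support_eq_empty]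
  | gen n =>
    let e := ((DerivedCategory.homologyFunctor (ModuleCat.{u} R) 0).shiftIso n i (n + i) rfl).app (kD R)
    refine (e.toLinearEquiv.support_eq).subset.trans ?_
    show Module.support R (Dual.HD R (kD R) (n + i)) ⊆ _
    by_cases hi : n + i = 0
    · rw [hi]
      let e' : (DerivedCategory.homologyFunctor (ModuleCat.{u} R) 0).obj (kD R) ≅
          ModuleCat.of R (R ⧸ IsLocalRing.maximalIdeal R) :=
        (homologyFunctorFactors _ 0).app _ ≪≫
          HomologicalComplex.singleObjHomologySelfIso (ComplexShape.up ℤ) 0 _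
      refine (e'.toLinearEquiv.support_eq).subset.trans ?_
      intro x hx
      replace hx : IsLocalRing.maximalIdeal R ≤ x.asIdeal := by
        rw [← Ideal.annihilator_quotient (I := IsLocalRing.maximalIdeal R)]
        exact Module.annihilator_le_of_mem_support hx
      exact Set.mem_singleton_iff.2 (PrimeSpectrum.ext
        ((IsLocalRing.maximalIdeal.isMaximal R).eq_of_le x.2.ne_top hx).symm)
    · have hz : IsZero ((DerivedCategory.homologyFunctor (ModuleCat.{u} R) (n + i)).obj (kD R)) := by
        rcases lt_or_gt_of_ne hi with hlt | hgt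
        · exact isZero_of_isGE _ 0 _ hlt
        · exact isZero_of_isLE _ 0 _ hgt
      have := ModuleCat.subsingleton_of_isZero hz
      simp [Module.support_eq_empty]
  | iso e _ ih =>
    exact (((DerivedCategory.homologyFunctor (ModuleCat.{u} R) i).mapIso e).toLinearEquiv.support_eq
      ).symm.subset.trans (ih i)
  | ext T hT _ _ ih₁ ih₃ =>
    intro x hx
    by_contra hne
    rw [Module.mem_support_iff'] at hx
    obtain ⟨m, hm⟩ := hx
    have h₁ : x ∉ Module.support R (Dual.HD R T.obj₁ i) := fun h => hne (ih₁ i h)
    have h₃ : x ∉ Module.support R (Dual.HD R T.obj₃ i) := fun h => hne (ih₃ i h)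
    rw [Module.notMem_support_iff'] at h₁ h₃
    let g := ((DerivedCategory.homologyFunctor (ModuleCat.{u} R) i).map T.mor₂).hom
    let f := ((DerivedCategory.homologyFunctor (ModuleCat.{u} R) i).map T.mor₁).hom
    obtain ⟨r, hr, hr'⟩ := h₃ (g m)
    have hex : Function.Exact f g :=
      (ShortComplex.ShortExact.moduleCat_exact_iff_function_exact _).1
        (HomologySequence.exact₂ T hT i)
    rw [← map_smul] at hr'
    obtain ⟨m', hm'⟩ := (hex _).1 hr'
    obtain ⟨s, hs, hs'⟩ := h₁ m'
    refine hm (s * r) (x.asIdeal.primeCompl.mul_mem hs hr) ?_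
    rw [mul_smul, ← hm', ← map_smul, hs', map_zero]

end Groth.Agent.PerfLocal
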